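import Groth.Agent.HypBC.Hesse
import Groth.Agent.FFCurve.P1Map
import Groth.Agent.CBC.TwistOne
import Groth.Agent.GrpScheme.HomFlat
import Groth.Agent.S7834
import Groth.Agent.S0023
import Groth.Prelude.Def_ModFun

/-!
# Families of genus zero curves and maps out of schemes of finite type
-/

set_option autoImplicit false
set_option linter.style.haveILetI false
set_option backward.isDefEq.respectTransparency.types false
universe u

open CategoryTheory CategoryTheory.Limits AlgebraicGeometry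

namespace Groth.Agent.ModFun0

/-- Curves of a given genus are stable under base change. -/
theorem isCurveOfGenus_of_isPullback {g : ℕ} {C T C' T' : Scheme.{u}} {p : C ⟶ T} {q : C' ⟶ T'}
    {a : C' ⟶ C} {h : T' ⟶ T} (H : IsPullback a q p h) (hp : ModFun.IsCurveOfGenus g p) :
    ModFun.IsCurveOfGenus g q := by
  obtain ⟨h1, h2, h3, h4⟩ := hp
  refine ⟨MorphismProperty.of_isPullback H h1, MorphismProperty.of_isPullback H h2,
    MorphismProperty.of_isPullback H h3, fun Ω _ _ t X i r HX => ?_⟩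
  exact h4 Ω (t ≫ h) X (i ≫ a) r (HX.paste_horiz H)

/-- The projective line is a family of genus zero curves. -/
theorem isCurveOfGenus_p1 (K : Type u) [Field K] [IsAlgClosed K] :
    ModFun.IsCurveOfGenus 0 (CohB1.ProjSpace.toSpec 1 K) := by
  obtain ⟨h1, h2, h3, -⟩ := FFCurve.p1_facts K
  haveI := h1; haveI := h2; haveI := h3
  haveI := CBC.TwistOne.geometricallyIntegral_of_smooth (CohB1.ProjSpace.toSpec 1 K)
  refine ⟨h2, h1, inferInstance, fun Ω _ _ t X i q H => ?_⟩
  obtain ⟨φ, rfl⟩ := Spec.map_surjective t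
  have H' := ProperFin.isPullback_pnMap 1 (φ.hom)
  let e : X ≅ CohB1.ProjSpace 1 Ω := H.isoIsPullback _ _ H'
  have he : e.hom ≫ CohB1.ProjSpace.toSpec 1 Ω = q := H.isoIsPullback_hom_snd _ _ H'
  refine ⟨(IsHomeomorph.topologicalKrullDim_eq _ e.hom.homeomorph.isHomeomorph).trans
    (FFCurve.p1_facts Ω).2.2.2, ?_⟩
  refine (HypBC.genus_iso q (CohB1.ProjSpace.toSpec 1 Ω) e he).trans ?_
  haveI := S0023.result 1 Ω 1 one_pos
  exact Module.finrank_zero_of_subsingleton

/-- A genus zero curve over an algebraically closed field: the facts. -/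
theorem facts_over_field (Ω : Type u) [Field Ω] [IsAlgClosed Ω] {C : Scheme.{u}}
    {p : C ⟶ Spec (CommRingCat.of Ω)} (hp : ModFun.IsCurveOfGenus 0 p) :
    IsIntegral C ∧ topologicalKrullDim C = 1 ∧
      ∃ e : C ≅ CohB1.ProjSpace 1 Ω, e.hom ≫ CohB1.ProjSpace.toSpec 1 Ω = p := by
  obtain ⟨h1, h2, h3, h4⟩ := hp
  obtain ⟨hd, hg⟩ := h4 Ω (𝟙 _) C (𝟙 _) p (IsPullback.of_id_fst)
  haveI := h1; haveI := h2; haveI := h3
  haveI : IsReduced C := GrpScheme.HomFlat.isReduced_of_smooth (K := Ω) p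
  haveI : IrreducibleSpace C := GeometricallyIrreducible.irreducibleSpace_of_subsingleton p
  haveI := isIntegral_of_irreducibleSpace_of_isReduced C
  letI : C.Over (Spec (CommRingCat.of Ω)) := ⟨p⟩
  haveI : IsProper (C ↘ Spec (CommRingCat.of Ω)) := h2
  haveI : GeometricallyIntegral (C ↘ Spec (CommRingCat.of Ω)) := CBC.TwistOne.geometricallyIntegral_of_smooth p
  exact ⟨inferInstance, hd, S7834.result Ω C hd hg⟩

/-- Two morphisms out of a Noetherian Jacobson scheme agreeing on all infinitesimal neighbourhoods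
of closed points are equal. -/
theorem hom_ext_of_thickenings {T N : Scheme.{u}} [IsLocallyNoetherian T] [JacobsonSpace T]
    (a b : T ⟶ N)
    (h : ∀ (U : T.Opens) (hU : IsAffineOpen U) (m : Ideal Γ(T, U)) [m.IsMaximal] (n : ℕ),
      (Spec.map (CommRingCat.ofHom (Ideal.Quotient.mk (m ^ (n + 1)))) ≫ hU.fromSpec) ≫ a =
      (Spec.map (CommRingCat.ofHom (Ideal.Quotient.mk (m ^ (n + 1)))) ≫ hU.fromSpec) ≫ b) :
    a = b := by
  classical
  have hpt : ∀ t : T, IsClosed ({t} : Set T) → a.base t = b.base t := by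
    intro t ht
    obtain ⟨U, hU, htU, -⟩ := exists_isAffineOpen_mem_and_subset (U := (⊤ : T.Opens)) (x := t) trivial
    set y := hU.primeIdealOf ⟨t, htU⟩
    have hy : hU.fromSpec y = t := hU.fromSpec_primeIdealOf ⟨t, htU⟩
    have hyc : IsClosed ({y} : Set (Spec Γ(T, U))) := by
      have h0 : hU.fromSpec ⁻¹' {t} = {y} := by
        ext z
        exact ⟨fun hz => hU.fromSpec.isOpenEmbedding.injective (hz.trans hy.symm), fun hz => by rw [hz]; exact hy⟩
      rw [← h0]
      exact ht.preimage hU.fromSpec.continuous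
    haveI := (PrimeSpectrum.isClosed_singleton_iff_isMaximal _).1 hyc
    have hne : Nontrivial (Γ(T, U) ⧸ y.asIdeal ^ 1) := Ideal.Quotient.nontrivial_iff.2 (by
      rw [pow_one]; exact ‹y.asIdeal.IsMaximal›.ne_top)
    obtain ⟨z⟩ := (inferInstance : Nonempty (PrimeSpectrum (Γ(T, U) ⧸ y.asIdeal ^ (0 + 1))))
    have hz : (Spec.map (CommRingCat.ofHom (Ideal.Quotient.mk (y.asIdeal ^ (0 + 1))))) z = y := by
      apply PrimeSpectrum.ext
      refine ((‹y.asIdeal.IsMaximal›).eq_of_le ?_ ?_).symm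
      · exact (Ideal.comap_isPrime _ z.asIdeal).ne_top
      · intro x hx
        change Ideal.Quotient.mk (y.asIdeal ^ (0 + 1)) x ∈ z.asIdeal
        rw [Ideal.Quotient.eq_zero_iff_mem.2 (by simpa using hx)]
        exact z.asIdeal.zero_mem
    have := congrArg (fun f => f.base z) (h U hU y.asIdeal 0)
    simp only [Scheme.Hom.comp_base, TopCat.comp_app] at this
    rw [hz, hy] at this
    exact this
  -- cover
  let ι := {p : T.Opens × N.Opens // IsAffineOpen p.1 ∧ IsAffineOpen p.2 ∧ p.1 ≤ a ⁻¹ᵁ p.2 ∧ p.1 ≤ b ⁻¹ᵁ p.2}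
  have hcov : (⨆ p : ι, p.1.1) = ⊤ := by
    rw [← top_le_iff]
    by_contra hne
    have hne' : (((⨆ p : ι, p.1.1 : T.Opens) : Set T)ᶜ).Nonempty := by
      rw [Set.nonempty_compl]
      intro h'
      exact hne fun x _ => by
        change x ∈ ((⨆ p : ι, p.1.1 : T.Opens) : Set T)
        rw [h']; trivial
    obtain ⟨t, htZ, htc⟩ := nonempty_inter_closedPoints hne'
      (⨆ p : ι, p.1.1 : T.Opens).isOpen.isClosed_compl.isLocallyClosed
    obtain ⟨V, hV, htV, -⟩ := exists_isAffineOpen_mem_and_subset (U := (⊤ : N.Opens)) (x := a.base t) trivial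
    obtain ⟨U, hU, htU, hUle⟩ := exists_isAffineOpen_mem_and_subset (U := a ⁻¹ᵁ V ⊓ b ⁻¹ᵁ V) (x := t)
      ⟨htV, by change b.base t ∈ V; rw [← hpt t htc]; exact htV⟩
    exact htZ (TopologicalSpace.Opens.mem_iSup.2 ⟨⟨⟨U, V⟩, hU, hV, hUle.trans inf_le_left, hUle.trans inf_le_right⟩, htU⟩)
  apply Scheme.Cover.hom_ext (T.openCoverOfIsOpenCover (fun p : ι => p.1.1) hcov)
  rintro ⟨⟨U, V⟩, hU, hV, hUa, hUb⟩
  change IsAffineOpen U at hU
  change IsAffineOpen V at hV
  change U ≤ a ⁻¹ᵁ V at hUa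
  change U ≤ b ⁻¹ᵁ V at hUb
  change U.ι ≫ a = U.ι ≫ b
  rw [← cancel_epi hU.isoSpec.inv, ← Category.assoc, ← Category.assoc]
  have e1 : hU.isoSpec.inv ≫ U.ι = hU.fromSpec := rfl
  rw [e1]
  rw [← IsAffineOpen.SpecMap_appLE_fromSpec a hV hU hUa, ← IsAffineOpen.SpecMap_appLE_fromSpec b hV hU hUb]
  congr 2
  ext s
  haveI : IsNoetherianRing Γ(T, U) := IsLocallyNoetherian.component_noetherian ⟨U, hU⟩
  rw [← sub_eq_zero]
  by_contra hne
  obtain ⟨m, hm, hmem⟩ := Ideal.exists_le_maximal (Ideal.span {x | x * ((a.appLE V U hUa).hom s - (b.appLE V U hUb).hom s) = 0}) (by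
    intro htop
    have : ∀ x ∈ Ideal.span {x | x * ((a.appLE V U hUa).hom s - (b.appLE V U hUb).hom s) = 0},
        x * ((a.appLE V U hUa).hom s - (b.appLE V U hUb).hom s) = 0 := fun x hx =>
      Submodule.span_induction (fun y hy => hy) (zero_mul _) (fun y z _ _ h1 h2 => by rw [add_mul, h1, h2, add_zero])
        (fun r y _ h1 => by rw [smul_eq_mul, mul_assoc, h1, mul_zero]) hx
    exact hne (by simpa using this 1 (htop ▸ Submodule.mem_top)))
  have key : ∀ n : ℕ, (a.appLE V U hUa).hom s - (b.appLE V U hUb).hom s ∈ m ^ n := by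
    intro n
    refine Ideal.pow_le_pow_right (Nat.le_succ n) ?_
    have h1 := h U hU m n
    rw [Category.assoc, Category.assoc, ← IsAffineOpen.SpecMap_appLE_fromSpec a hV hU hUa, ← IsAffineOpen.SpecMap_appLE_fromSpec b hV hU hUb,
      ← Category.assoc, ← Category.assoc, cancel_mono, ← Spec.map_comp, ← Spec.map_comp] at h1
    have h2 := congrArg (fun f => (CommRingCat.Hom.hom f) s) (Spec.map_injective h1)
    exact (Ideal.Quotient.mk_eq_mk_iff_sub_mem _ _).1 h2
  obtain ⟨r, hr⟩ := (m.mem_iInf_smul_pow_eq_bot_iff ((a.appLE V U hUa).hom s - (b.appLE V U hUb).hom s)).1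
    ((Submodule.mem_iInf _).2 fun n => by rw [smul_eq_mul, Ideal.mul_top]; exact key n)
  have h3 : (1 - (r : Γ(T, U))) ∈ m := hmem (Ideal.subset_span (by
    change (1 - (r : Γ(T, U))) * _ = 0
    rw [sub_mul, one_mul, ← smul_eq_mul, hr, sub_self]))
  exact hm.ne_top ((Ideal.eq_top_iff_one m).2 (by simpa using m.add_mem h3 r.2))

end Groth.Agent.ModFun0
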